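import Mathlib
import Groth.Prelude.Def_DerLim
import Groth.Agent.S0986

set_option backward.isDefEq.respectTransparency false
set_option backward.isDefEq.respectTransparency.types false
set_option linter.style.haveILetI false
set_option autoImplicit false

universe v v' u u' w

open CategoryTheory Category Limits Pretriangulated

namespace Groth.Agent.Hocolim

theorem ι_shiftMap {D : Type u} [Category.{v} D] (K : ℕ → D) (f : ∀ n, K n ⟶ K (n + 1)) [HasCoproduct K] (n : ℕ) :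
    Sigma.ι K n ≫ DerLim.shiftMap K f = f n ≫ Sigma.ι K (n + 1) := Sigma.ι_desc _ _

theorem comparison_comm {D : Type u} [Category.{v} D] [Preadditive D] {A : Type u'} [Category.{v'} A] [Preadditive A]
    (G : D ⥤ A) [G.Additive] (K : ℕ → D) (f : ∀ n, K n ⟶ K (n + 1)) [HasCoproduct K]
    [HasCoproduct (fun n => G.obj (K n))] :
    (𝟙 _ - DerLim.shiftMap (fun n => G.obj (K n)) (fun n => G.map (f n))) ≫ sigmaComparison G K =
      sigmaComparison G K ≫ G.map (𝟙 (∐ K) - DerLim.shiftMap K f) := by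
  refine Sigma.hom_ext _ _ fun n => ?_
  simp only [Preadditive.sub_comp, Preadditive.comp_sub, Category.id_comp, G.map_sub, CategoryTheory.Functor.map_id,
    Category.comp_id, reassoc_of% (ι_shiftMap (fun n => G.obj (K n)) (fun n => G.map (f n))), ι_comp_sigmaComparison,
    ι_comp_sigmaComparison_assoc, ← G.map_comp, ι_shiftMap]

section colim

variable {A : Type u'} [Category.{v'} A] [Abelian A] [HasColimitsOfShape ℕ A] [HasExactColimitsOfShape ℕ A]

theorem mono_of_sequence (M : ℕ → A) (g : ∀ n, M n ⟶ M (n + 1)) [HasCoproduct M] :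
    Mono (𝟙 (∐ M) - DerLim.shiftMap M g) := by
  haveI : HasCoproduct (Functor.ofSequence g).obj := ‹HasCoproduct M›
  obtain ⟨w, hw⟩ := Groth.Agent.S0986.result (Functor.ofSequence g)
  have := hw.mono_f
  simp only [Functor.ofSequence_map_homOfLE_succ] at this
  exact this

variable {D : Type u} [Category.{v} D] [Preadditive D] [HasZeroObject D] [HasShift D ℤ]
  [∀ n : ℤ, (shiftFunctor D n).Additive] [Pretriangulated D]

theorem mono_map (G : D ⥤ A) [G.Additive] [PreservesColimitsOfShape (Discrete ℕ) G]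
    [HasColimitsOfShape (Discrete ℕ) D] [HasColimitsOfShape (Discrete ℕ) A] (K : ℕ → D) (f : ∀ n, K n ⟶ K (n + 1)) :
    Mono (G.map (𝟙 (∐ K) - DerLim.shiftMap K f)) := by
  haveI := mono_of_sequence (fun n => G.obj (K n)) (fun n => G.map (f n))
  have h := comparison_comm G K f
  have : G.map (𝟙 (∐ K) - DerLim.shiftMap K f) =
      inv (sigmaComparison G K) ≫ (𝟙 _ - DerLim.shiftMap (fun n => G.obj (K n)) (fun n => G.map (f n))) ≫ sigmaComparison G K := by
    rw [h, IsIso.inv_hom_id_assoc]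
  rw [this]
  infer_instance

theorem iso_colimit [IsTriangulated D] [HasColimitsOfShape (Discrete ℕ) D] (H : D ⥤ A) [H.IsHomological]
    [PreservesColimitsOfShape (Discrete ℕ) H] (K : ℕ → D) (f : ∀ n, K n ⟶ K (n + 1)) (L : D) (i : ∀ n, K n ⟶ L)
    (hL : DerLim.IsHocolim K f L i) :
    ∃ e : colimit (Functor.ofSequence (fun n => H.map (f n))) ≅ H.obj L,
      ∀ n : ℕ, colimit.ι (Functor.ofSequence (fun n => H.map (f n))) n ≫ e.hom = H.map (i n) := by
  obtain ⟨c, hT⟩ := hL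
  haveI : HasColimit (Discrete.functor fun n => H.obj (K n)) :=
    hasColimit_of_iso (Discrete.natIso (fun _ => Iso.refl _) : Discrete.functor (fun n => H.obj (K n)) ≅ Discrete.functor K ⋙ H)
  haveI hasF : HasCoproduct (Functor.ofSequence (fun n => H.map (f n))).obj :=
    ‹HasColimit (Discrete.functor fun n => H.obj (K n))›
  have hi : ∀ n, f n ≫ i (n + 1) = i n := fun n => by
    have h : (𝟙 (∐ K) - DerLim.shiftMap K f) ≫ Sigma.desc i = 0 := comp_distTriang_mor_zero₁₂ _ hT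
    have h' := Sigma.ι K n ≫= h
    simp only [Preadditive.sub_comp, Preadditive.comp_sub, Category.id_comp, Sigma.ι_desc, comp_zero,
      reassoc_of% (ι_shiftMap K f), sub_eq_zero] at h'
    exact h'.symm
  let F := Functor.ofSequence (fun n => H.map (f n))
  obtain ⟨w, hw⟩ := Groth.Agent.S0986.result F
  have hcl := hw.gIsCokernel
  have h1 : (H.map (𝟙 (∐ K) - DerLim.shiftMap K f)) ≫ H.map (Sigma.desc i) = 0 := by
    rw [← H.map_comp]
    exact (congrArg H.map (comp_distTriang_mor_zero₁₂ _ hT)).trans (H.map_zero _ _)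
  have ex1 := Functor.IsHomological.exact (F := H) _ hT
  have ex2 := Functor.IsHomological.exact (F := H) _ (rot_of_distTriang _ hT)
  haveI hm : Mono (H.map ((shiftFunctor D (1 : ℤ)).map (𝟙 (∐ K) - DerLim.shiftMap K f))) := by
    haveI : HasCoproduct (fun n => (shiftFunctor D (1 : ℤ) ⋙ H).obj (K n)) :=
      hasColimit_of_iso (Discrete.natIso (fun _ => Iso.refl _) : Discrete.functor (fun n => (shiftFunctor D (1 : ℤ) ⋙ H).obj (K n)) ≅ Discrete.functor K ⋙ (shiftFunctor D (1 : ℤ) ⋙ H))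
    haveI := mono_of_sequence (fun n => (shiftFunctor D (1 : ℤ) ⋙ H).obj (K n)) (fun n => (shiftFunctor D (1 : ℤ) ⋙ H).map (f n))
    have h := comparison_comm (shiftFunctor D (1 : ℤ) ⋙ H) K f
    have e : (shiftFunctor D (1 : ℤ) ⋙ H).map (𝟙 (∐ K) - DerLim.shiftMap K f) =
        inv (sigmaComparison (shiftFunctor D (1 : ℤ) ⋙ H) K) ≫ (𝟙 _ - DerLim.shiftMap _ (fun n => (shiftFunctor D (1 : ℤ) ⋙ H).map (f n))) ≫ sigmaComparison (shiftFunctor D (1 : ℤ) ⋙ H) K := by
      rw [h, IsIso.inv_hom_id_assoc]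
    change Mono ((shiftFunctor D (1 : ℤ) ⋙ H).map (𝟙 (∐ K) - DerLim.shiftMap K f))
    rw [e]
    infer_instance
  haveI : Epi (H.map (Sigma.desc i)) := by
    refine ex2.epi_f ?_
    change H.map c = 0
    rw [← cancel_mono (H.map ((shiftFunctor D (1 : ℤ)).map (𝟙 (∐ K) - DerLim.shiftMap K f))), zero_comp, ← H.map_comp]
    exact (congrArg H.map (comp_distTriang_mor_zero₃₁ _ hT)).trans (H.map_zero _ _)
  let φ : colimit F ⟶ H.obj L := colimit.desc F
    { pt := H.obj L
      ι := NatTrans.ofSequence (fun n => H.map (i n)) (fun n => by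
        dsimp [F]
        rw [Functor.ofSequence_map_homOfLE_succ, ← H.map_comp, hi n, Category.comp_id]) }
  have hφ : ∀ n, colimit.ι F n ≫ φ = H.map (i n) := fun n => colimit.ι_desc _ n
  let s : (∐ F.obj) ⟶ H.obj (∐ K) := sigmaComparison H K
  have hsι : ∀ n, Sigma.ι F.obj n ≫ s = H.map (Sigma.ι K n) := fun n => ι_comp_sigmaComparison H K n
  haveI : IsIso s := inferInstanceAs (IsIso (sigmaComparison H K))
  let q : (∐ F.obj) ⟶ colimit F := Sigma.desc (fun n => colimit.ι F n)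
  have hq : q ≫ φ = s ≫ H.map (Sigma.desc i) := Sigma.hom_ext _ _ fun n => by
    rw [Sigma.ι_desc_assoc, hφ, ← Category.assoc, hsι, ← H.map_comp, Sigma.ι_desc]
  haveI : Epi ((shortComplexOfDistTriangle _ hT).map H).g := inferInstanceAs (Epi (H.map (Sigma.desc i)))
  have hcl' := ex1.gIsCokernel
  have h0 : (H.map (𝟙 (∐ K) - DerLim.shiftMap K f)) ≫ inv s ≫ q = 0 := by
    rw [← cancel_epi s, comp_zero]
    have hc := comparison_comm H K f
    change _ ≫ s = s ≫ _ at hc
    rw [← reassoc_of% hc, IsIso.hom_inv_id_assoc]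
    have w' := w
    dsimp [F] at w' ⊢
    simp only [Functor.ofSequence_map_homOfLE_succ] at w'
    exact w'
  let ψ : H.obj L ⟶ colimit F := hcl'.desc (CokernelCofork.ofπ (inv s ≫ q) h0)
  have hψ : H.map (Sigma.desc i) ≫ ψ = inv s ≫ q := hcl'.fac _ WalkingParallelPair.one
  haveI : Epi q := hw.epi_g
  refine ⟨⟨φ, ψ, ?_, ?_⟩, hφ⟩
  · rw [← cancel_epi q, reassoc_of% hq, hψ, IsIso.hom_inv_id_assoc, Category.comp_id]
  · rw [← cancel_epi (H.map (Sigma.desc i)), reassoc_of% hψ, hq, IsIso.inv_hom_id_assoc, Category.comp_id]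

end colim

section subseq

variable {D : Type u} [Category.{v} D] [Preadditive D] [HasZeroObject D] [HasShift D ℤ]
  [∀ n : ℤ, (shiftFunctor D n).Additive] [Pretriangulated D]

theorem triangle_retraction {X Y L : D} {d : X ⟶ Y} {q : Y ⟶ L} {c : L ⟶ X⟦(1 : ℤ)⟧}
    (hT : Triangle.mk d q c ∈ distTriang D) {g : L ⟶ L} {h : Y ⟶ X} (hq : q ≫ g = (𝟙 Y + h ≫ d) ≫ q)
    (hc : g ≫ c = c ≫ (𝟙 X + d ≫ h)⟦(1 : ℤ)⟧') : IsIso g := by
  have h12 : d ≫ q = 0 := comp_distTriang_mor_zero₁₂ _ hT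
  have h31 : c ≫ d⟦(1 : ℤ)⟧' = 0 := comp_distTriang_mor_zero₃₁ _ hT
  have hq' : q ≫ g = q := by rw [hq, Preadditive.add_comp, Category.id_comp, Category.assoc, h12, comp_zero, add_zero]
  have hc' : g ≫ c = c := by
    rw [hc, Functor.map_add, Functor.map_comp, Preadditive.comp_add, reassoc_of% h31, zero_comp, add_zero,
      CategoryTheory.Functor.map_id, Category.comp_id]
  exact isIso₃_of_isIso₁₂ (T := Triangle.mk d q c) (T' := Triangle.mk d q c)
    ⟨𝟙 _, 𝟙 _, g, by simp, by simpa using hq', by simpa using hc'.symm⟩ hT hT inferInstance inferInstance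

variable (F : ℕ ⥤ D) (n : ℕ → ℕ) (hn : StrictMono n)

noncomputable def jidx (m : ℕ) : ℕ := Nat.find (⟨m, hn.id_le m⟩ : ∃ j, m ≤ n j)

theorem le_n_jidx (m : ℕ) : m ≤ n (jidx n hn m) := Nat.find_spec (⟨m, hn.id_le m⟩ : ∃ j, m ≤ n j)

theorem jidx_eq {m j : ℕ} (h1 : m ≤ n j) (h2 : ∀ i < j, n i < m) : jidx n hn m = j :=
  (Nat.find_eq_iff _).2 ⟨h1, fun i hi => not_le.2 (h2 i hi)⟩

theorem jidx_n (i : ℕ) : jidx n hn (n i) = i := jidx_eq n hn le_rfl fun _ hk => hn hk

theorem lt_of_lt_jidx {m i : ℕ} (h : i < jidx n hn m) : n i < m := not_le.1 fun h' => not_le.2 h (Nat.find_min' _ h')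

theorem subsequence [HasCoproduct (fun m : ℕ => F.obj m)] [HasCoproduct (fun i : ℕ => F.obj (n i))]
    (L : D) (ι : ∀ m : ℕ, F.obj m ⟶ L)
    (hL : DerLim.IsHocolim (fun m : ℕ => F.obj m) (fun m : ℕ => F.map (homOfLE (Nat.le_succ m))) L ι)
    (L' : D) (ι' : ∀ i : ℕ, F.obj (n i) ⟶ L')
    (hL' : DerLim.IsHocolim (fun i : ℕ => F.obj (n i)) (fun i : ℕ => F.map (homOfLE (hn.monotone (Nat.le_succ i)))) L' ι') :
    ∃ e : L' ≅ L, ∀ i : ℕ, ι' i ≫ e.hom = ι (n i) := by
  classical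
  obtain ⟨c, hT⟩ := hL
  obtain ⟨c', hT'⟩ := hL'
  let K := fun m : ℕ => F.obj m
  let K' := fun i : ℕ => F.obj (n i)
  let tr : ∀ {a b : ℕ}, a ≤ b → (F.obj a ⟶ F.obj b) := fun h => F.map (homOfLE h)
  have tr_comp : ∀ {a b c : ℕ} (h : a ≤ b) (h' : b ≤ c), tr h ≫ tr h' = tr (h.trans h') := fun h h' => by
    simp only [tr, ← F.map_comp]; rfl
  have tr_refl : ∀ {a : ℕ}, tr (le_refl a) = 𝟙 _ := fun {a} => F.map_id a
  let d := 𝟙 (∐ K) - DerLim.shiftMap K (fun m => tr (Nat.le_succ m))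
  let d' := 𝟙 (∐ K') - DerLim.shiftMap K' (fun i => tr (hn.monotone (Nat.le_succ i)))
  have hd : ∀ m, Sigma.ι K m ≫ d = Sigma.ι K m - tr (Nat.le_succ m) ≫ Sigma.ι K (m + 1) := fun m => by
    simp [d, Preadditive.comp_sub, ι_shiftMap]
  have hd' : ∀ i, Sigma.ι K' i ≫ d' = Sigma.ι K' i - tr (hn.monotone (Nat.le_succ i)) ≫ Sigma.ι K' (i + 1) := fun i => by
    simp [d', Preadditive.comp_sub, ι_shiftMap]
  -- sums over intervals
  let S : ∀ (a b : ℕ), K a ⟶ ∐ K := fun a b =>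
    ∑ l ∈ Finset.Ico a b, if h : a ≤ l then tr h ≫ Sigma.ι K l else 0
  have S_self : ∀ a, S a a = 0 := fun a => by simp [S]
  have S_succ : ∀ {a b : ℕ} (h : a ≤ b), S a (b + 1) = S a b + tr h ≫ Sigma.ι K b := fun {a b} h => by
    simp only [S]
    rw [Finset.sum_Ico_succ_top h, dif_pos h]
  have S_d : ∀ (a b : ℕ) (h : a ≤ b), S a b ≫ d = Sigma.ι K a - tr h ≫ Sigma.ι K b := by
    intro a b h
    induction b, h using Nat.le_induction with
    | base => simp [S_self, tr_refl]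
    | succ b h ih =>
      rw [S_succ h, Preadditive.add_comp, ih, Category.assoc, hd, Preadditive.comp_sub, ← Category.assoc, tr_comp]
      simp
  have S_left : ∀ {a b : ℕ} (h : a + 1 ≤ b), S a b = Sigma.ι K a + tr (Nat.le_succ a) ≫ S (a + 1) b := by
    intro a b h
    induction b, h using Nat.le_induction with
    | base => rw [S_succ (le_refl a), S_self, S_self, tr_refl]; simp
    | succ b h ih =>
      rw [S_succ (by omega : a ≤ b), ih, S_succ h, Preadditive.comp_add, ← Category.assoc, tr_comp, add_assoc]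
  let φ : ∐ K' ⟶ ∐ K := Sigma.desc fun i => Sigma.ι K (n i)
  let a : ∐ K' ⟶ ∐ K := Sigma.desc fun i => S (n i) (n (i + 1))
  let ψ : ∐ K ⟶ ∐ K' := Sigma.desc fun m => tr (le_n_jidx n hn m) ≫ Sigma.ι K' (jidx n hn m)
  let a' : ∐ K ⟶ ∐ K' := Sigma.desc fun m =>
    if h : n (jidx n hn m) ≤ m then tr (le_n_jidx n hn m) ≫ Sigma.ι K' (jidx n hn m) else 0
  let k : ∐ K ⟶ ∐ K := Sigma.desc fun m => - S m (n (jidx n hn m))
  have congrK' : ∀ {m : ℕ} {i j : ℕ} (e : i = j) (h : m ≤ n i) (h' : m ≤ n j),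
      tr h ≫ Sigma.ι K' i = tr h' ≫ Sigma.ι K' j := by
    rintro m i j rfl h h'; rfl
  have hψn : ∀ i, Sigma.ι K (n i) ≫ ψ = Sigma.ι K' i := fun i => by
    simp only [ψ, Sigma.ι_desc]
    rw [congrK' (jidx_n n hn i) (le_n_jidx n hn (n i)) le_rfl, tr_refl, Category.id_comp]
  have comm : d' ≫ φ = a ≫ d := by
    refine Sigma.hom_ext _ _ fun i => ?_
    simp only [a, φ, Sigma.ι_desc_assoc, S_d _ _ (hn.monotone (Nat.le_succ i)), reassoc_of% (hd' i),
      Preadditive.sub_comp, Category.assoc, Sigma.ι_desc]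
  have step : ∀ m, m < n (jidx n hn m) → jidx n hn (m + 1) = jidx n hn m := fun m hm =>
    jidx_eq n hn hm fun i hi => (lt_of_lt_jidx n hn hi).trans (Nat.lt_succ_self m)
  have stepn : ∀ i, jidx n hn (n i + 1) = i + 1 := fun i =>
    jidx_eq n hn (hn (Nat.lt_succ_self i)) fun k hk => Nat.lt_succ_of_le (hn.monotone (Nat.le_of_lt_succ hk))
  have comm' : d ≫ ψ = a' ≫ d' := by
    refine Sigma.hom_ext _ _ fun m => ?_
    rw [reassoc_of% (hd m), Preadditive.sub_comp, Category.assoc]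
    simp only [ψ, a', Sigma.ι_desc, Sigma.ι_desc_assoc, ← Category.assoc (tr (Nat.le_succ m)), tr_comp]
    split_ifs with h
    · have hm : m = n (jidx n hn m) := le_antisymm (le_n_jidx n hn m) h
      rw [Category.assoc, hd', Preadditive.comp_sub, ← Category.assoc (tr (le_n_jidx n hn m)), tr_comp]
      congr 1
      exact congrK' ((congrArg (fun x => jidx n hn (x + 1)) hm).trans (stepn _)) _ _
    · rw [zero_comp, sub_eq_zero]
      exact congrK' (step m (not_le.1 h)).symm _ _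
  have hk : ψ ≫ φ = 𝟙 _ + k ≫ d := by
    refine Sigma.hom_ext _ _ fun m => ?_
    simp only [ψ, φ, k, Sigma.ι_desc_assoc, Category.assoc, Sigma.ι_desc, Preadditive.comp_add, Category.comp_id,
      Preadditive.neg_comp, S_d _ _ (le_n_jidx n hn m)]
    abel
  have hk' : a' ≫ a = 𝟙 _ + d ≫ k := by
    refine Sigma.hom_ext _ _ fun m => ?_
    rw [Preadditive.comp_add, Category.comp_id, reassoc_of% (hd m), Preadditive.sub_comp, Category.assoc]
    simp only [a', a, k, Sigma.ι_desc_assoc, Sigma.ι_desc, Preadditive.comp_neg]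
    split_ifs with h
    · have hm : m = n (jidx n hn m) := le_antisymm (le_n_jidx n hn m) h
      rw [Category.assoc, Sigma.ι_desc]
      have hlt : m + 1 ≤ n (jidx n hn m + 1) :=
        lt_of_le_of_lt (le_n_jidx n hn m) (hn (Nat.lt_succ_self _))
      have h1 : jidx n hn (m + 1) = jidx n hn m + 1 :=
        (congrArg (fun x => jidx n hn (x + 1)) hm).trans (stepn _)
      have hS : ∀ {x y : ℕ} (_ : x = y) (hxy : x ≤ y) (z : ℕ), tr hxy ≫ S y z = S x z := by
        rintro x y rfl hxy z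
        rw [tr_refl, Category.id_comp]
      have hz : S m (n (jidx n hn m)) = 0 := by simp [S, h]
      rw [h1, hz, hS hm, S_left hlt]
      simp
    · rw [zero_comp, step m (not_le.1 h), S_left (not_le.1 h)]
      simp
  let φT := completeDistinguishedTriangleMorphism (Triangle.mk d' (Sigma.desc ι') c') (Triangle.mk d (Sigma.desc ι) c) hT' hT a φ comm
  let ψT := completeDistinguishedTriangleMorphism (Triangle.mk d (Sigma.desc ι) c) (Triangle.mk d' (Sigma.desc ι') c') hT hT' a' ψ comm'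
  have e2 : Sigma.desc ι' ≫ φT.hom₃ = φ ≫ Sigma.desc ι := φT.comm₂
  have e3 : c' ≫ a⟦(1 : ℤ)⟧' = φT.hom₃ ≫ c := φT.comm₃
  have f2 : Sigma.desc ι ≫ ψT.hom₃ = ψ ≫ Sigma.desc ι' := ψT.comm₂
  have f3 : c ≫ a'⟦(1 : ℤ)⟧' = ψT.hom₃ ≫ c' := ψT.comm₃
  have hφψ : φ ≫ ψ = 𝟙 _ := Sigma.hom_ext _ _ fun i => by
    simp only [φ, Sigma.ι_desc_assoc, hψn, Category.comp_id]
  haveI i1 : IsIso (ψT.hom₃ ≫ φT.hom₃) := by
    refine triangle_retraction (h := k) hT ?_ ?_
    · rw [reassoc_of% f2, e2, ← Category.assoc, hk]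
    · rw [Category.assoc, ← e3, ← reassoc_of% f3, ← Functor.map_comp, hk']
  haveI i2 : IsIso (φT.hom₃ ≫ ψT.hom₃) :=
    isIso₃_of_isIso₁₂ (φT ≫ ψT) hT' hT' (by
      change IsIso (a ≫ a')
      have : a ≫ a' = 𝟙 _ := by
        refine Sigma.hom_ext _ _ fun i => ?_
        simp only [a, Sigma.ι_desc_assoc, Category.comp_id, S, Preadditive.sum_comp]
        rw [Finset.sum_eq_single (n i)]
        · rw [dif_pos le_rfl, Category.assoc, Sigma.ι_desc, dif_pos (by rw [jidx_n]),
            congrK' (jidx_n n hn i) (le_n_jidx n hn (n i)) le_rfl, tr_refl, Category.id_comp, Category.id_comp]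
        · intro l hl hne
          obtain ⟨h1, h2⟩ := Finset.mem_Ico.1 hl
          rw [dif_pos h1, Category.assoc, Sigma.ι_desc, dif_neg, comp_zero]
          rw [jidx_eq n hn h2.le fun x hx => lt_of_le_of_lt (hn.monotone (Nat.le_of_lt_succ hx)) (lt_of_le_of_ne h1 (Ne.symm hne))]
          exact not_le.2 h2
        · intro h
          exact absurd (Finset.mem_Ico.2 ⟨le_rfl, hn (Nat.lt_succ_self i)⟩) h
      rw [this]
      infer_instance) (by change IsIso (φ ≫ ψ); rw [hφψ]; infer_instance)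
  haveI : IsIso φT.hom₃ := by
    haveI : Epi φT.hom₃ := epi_of_epi ψT.hom₃ φT.hom₃
    haveI : IsSplitMono φT.hom₃ := IsSplitMono.mk' ⟨ψT.hom₃ ≫ inv (φT.hom₃ ≫ ψT.hom₃), by
      rw [← Category.assoc, IsIso.hom_inv_id]⟩
    exact isIso_of_epi_of_isSplitMono _
  refine ⟨asIso φT.hom₃, fun i => ?_⟩
  have := Sigma.ι K' i ≫= e2
  simp only [φ, Sigma.ι_desc_assoc, Sigma.ι_desc] at this
  exact this

end subseq

section ses

variable {A : Type u} [Category.{v} A] [Abelian A] [HasDerivedCategory.{w} A] [HasColimitsOfShape ℕ A]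
  [HasExactColimitsOfShape ℕ A]

theorem isHocolim_colimit (L : ℕ ⥤ CochainComplex A ℤ) [HasCoproduct L.obj]
    [PreservesColimit (Discrete.functor L.obj) (DerivedCategory.Q (C := A))]
    [HasCoproduct (fun n => DerivedCategory.Q.obj (L.obj n))] :
    DerLim.IsHocolim (fun n => DerivedCategory.Q.obj (L.obj n))
      (fun n => DerivedCategory.Q.map (L.map (homOfLE (Nat.le_succ n)))) (DerivedCategory.Q.obj (colimit L))
      (fun n => DerivedCategory.Q.map (colimit.ι L n)) := by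
  obtain ⟨w, hw⟩ := Groth.Agent.S0986.result L
  let s := sigmaComparison (DerivedCategory.Q (C := A)) L.obj
  have hT := DerivedCategory.triangleOfSES_distinguished hw
  refine ⟨(DerivedCategory.triangleOfSES hw).mor₃ ≫ (shiftFunctor _ (1 : ℤ)).map (inv s), ?_⟩
  refine isomorphic_distinguished _ hT _ (Triangle.isoMk _ _ (asIso s) (asIso s) (Iso.refl _) ?_ ?_ ?_)
  · exact comparison_comm DerivedCategory.Q L.obj (fun n => L.map (homOfLE (Nat.le_succ n)))
  · refine (Category.comp_id _).trans (Sigma.hom_ext _ _ fun n => ?_)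
    change Sigma.ι _ n ≫ Sigma.desc (fun n => DerivedCategory.Q.map (colimit.ι L n)) =
      Sigma.ι _ n ≫ sigmaComparison DerivedCategory.Q L.obj ≫ DerivedCategory.Q.map (Sigma.desc fun n => colimit.ι L n)
    rw [Sigma.ι_desc, ι_comp_sigmaComparison_assoc, ← Functor.map_comp, Sigma.ι_desc]
  · change ((DerivedCategory.triangleOfSES hw).mor₃ ≫ (shiftFunctor _ (1 : ℤ)).map (inv s)) ≫ (shiftFunctor _ (1 : ℤ)).map s = 𝟙 _ ≫ (DerivedCategory.triangleOfSES hw).mor₃
    rw [Category.assoc, ← Functor.map_comp, IsIso.inv_hom_id, CategoryTheory.Functor.map_id, Category.comp_id, Category.id_comp]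

end ses

end Groth.Agent.Hocolim
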