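import Groth.Agent.CohDerTri.Envelope
import Groth.Prelude.Def_DerLim

set_option autoImplicit false
set_option linter.unusedSectionVars false
universe v u

namespace Groth.Agent.Hocolim

open CategoryTheory Limits Pretriangulated ZeroObject
open Groth.Agent Groth.Agent.CohDerTri

variable {D : Type u} [Category.{v} D] [Preadditive D] [HasZeroObject D] [HasShift D ℤ]
  [∀ n : ℤ, (shiftFunctor D n).Additive] [Pretriangulated D] [IsTriangulated D]
  [HasCoproducts.{v} D] [HasColimitsOfShape (Discrete ℕ) D]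

theorem exists_presentation {ι : Type v} (E : ι → D) (hc : ∀ i, CohDer.IsCompactObject (E i)) (hgen : CohDer.Generates E) (X : D) :
    ∃ (K : ℕ → D) (f : ∀ n, K n ⟶ K (n + 1)) (i : ∀ n, K n ⟶ X), DerLim.IsHocolim K f X i ∧
      (∃ (κ : Type v) (a : κ → ι) (m : κ → ℤ), Nonempty (K 0 ≅ ∐ (fun k => (shiftFunctor D (m k)).obj (E (a k))))) ∧
      ∀ n, ∃ (κ : Type v) (a : κ → ι) (m : κ → ℤ)
        (y : (∐ fun k => (shiftFunctor D (m k)).obj (E (a k))) ⟶ K n)
        (z : K (n + 1) ⟶ (shiftFunctor D (1 : ℤ)).obj (∐ fun k => (shiftFunctor D (m k)).obj (E (a k)))),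
        Triangle.mk y (f n) z ∈ distinguishedTriangles := by
  classical
    let J₀ : Type v := Σ (k : ι × ℤ), ((E k.1)⟦k.2⟧ ⟶ X)
  let S : ℕ → Σ K : D, K ⟶ X := fun n => Nat.rec
    ⟨∐ fun j : J₀ => (E j.1.1)⟦j.1.2⟧, Sigma.desc fun j => j.2⟩
    (fun _ P =>
      let J : Type v := Σ (k : ι × ℤ), { g : (E k.1)⟦k.2⟧ ⟶ P.1 // g ≫ P.2 = 0 }
      let y : (∐ fun j : J => (E j.1.1)⟦j.1.2⟧) ⟶ P.1 := Sigma.desc fun j => j.2.1
      have h := distinguished_cocone_triangle y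
      have hu : ∃ u : h.choose ⟶ X, P.2 = h.choose_spec.choose ≫ u :=
        Triangle.yoneda_exact₂ _ h.choose_spec.choose_spec.choose_spec P.2 (by
          refine Sigma.hom_ext _ _ fun j => ?_
          show Sigma.ι (fun j : J => (E j.1.1)⟦j.1.2⟧) j ≫ y ≫ P.2 = _
          rw [Sigma.ι_desc_assoc]
          exact j.2.2.trans comp_zero.symm)
      ⟨h.choose, hu.choose⟩) n
  let K : ℕ → D := fun n => (S n).1
  let u : ∀ n, K n ⟶ X := fun n => (S n).2
  have hS : ∀ n, ∃ (f : K n ⟶ K (n + 1)),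
      (∃ (κ : Type v) (a : κ → ι) (m : κ → ℤ)
        (y : (∐ fun k => (shiftFunctor D (m k)).obj (E (a k))) ⟶ K n)
        (z : K (n + 1) ⟶ (shiftFunctor D (1 : ℤ)).obj
          (∐ fun k => (shiftFunctor D (m k)).obj (E (a k)))),
        Triangle.mk y f z ∈ distinguishedTriangles) ∧
      f ≫ u (n + 1) = u n ∧ ∀ (k : ι × ℤ) (g : (E k.1)⟦k.2⟧ ⟶ K n), g ≫ u n = 0 → g ≫ f = 0 := by
    intro n
    let J : Type v := Σ (k : ι × ℤ), { g : (E k.1)⟦k.2⟧ ⟶ K n // g ≫ u n = 0 }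
    let y : (∐ fun j : J => (E j.1.1)⟦j.1.2⟧) ⟶ K n := Sigma.desc fun j => j.2.1
    have h := distinguished_cocone_triangle y
    refine ⟨h.choose_spec.choose, ⟨J, fun j => j.1.1, fun j => j.1.2, y, _,
      h.choose_spec.choose_spec.choose_spec⟩, ?_, fun m g hg => ?_⟩
    · symm
      dsimp only [u, S]
      exact Exists.choose_spec (p := fun t : h.choose ⟶ X => u n = h.choose_spec.choose ≫ t) _
    · have h0 : y ≫ h.choose_spec.choose = 0 :=
        comp_distTriang_mor_zero₁₂ _ h.choose_spec.choose_spec.choose_spec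
      have h1 : Sigma.ι (fun j : J => (E j.1.1)⟦j.1.2⟧) ⟨m, g, hg⟩ ≫ y = g := Sigma.ι_desc _ _
      rw [← h1, Category.assoc, h0, comp_zero]
  choose f hstep hcompat hkill using hS
  have h0 : ∃ (κ : Type v) (a : κ → ι) (m : κ → ℤ),
      Nonempty (K 0 ≅ ∐ (fun k => (shiftFunctor D (m k)).obj (E (a k)))) :=
    ⟨J₀, fun j => j.1.1, fun j => j.1.2, ⟨Iso.refl _⟩⟩
  let σ : ∐ K ⟶ ∐ K := Sigma.desc fun n => f n ≫ Sigma.ι K (n + 1)
  obtain ⟨Xω, q, δ, hT⟩ := distinguished_cocone_triangle (𝟙 _ - σ)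
  obtain ⟨w, hw⟩ : ∃ w : Xω ⟶ X, Sigma.desc u = q ≫ w :=
    Triangle.yoneda_exact₂ _ hT (Sigma.desc u) (by
      suffices h : (𝟙 (∐ K) - σ) ≫ Sigma.desc u = 0 from h
      refine Sigma.hom_ext _ _ fun n => ?_
      simp [σ, Preadditive.sub_comp, Preadditive.comp_sub, hcompat n])
  have hqw : ∀ n, Sigma.ι K n ≫ q ≫ w = u n := fun n => by rw [← hw, Sigma.ι_desc]
  have hιq : ∀ n, Sigma.ι K n ≫ q = f n ≫ Sigma.ι K (n + 1) ≫ q := fun n => by
    have h : (𝟙 _ - σ) ≫ q = 0 := comp_distTriang_mor_zero₁₂ _ hT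
    have := congrArg (fun t => Sigma.ι K n ≫ t) h
    simpa [σ, Preadditive.sub_comp, Preadditive.comp_sub, sub_eq_zero] using this
  let A : Brown.Pt (preadditiveYoneda.obj X) := ⟨Xω, w⟩
  let B : Brown.Pt (preadditiveYoneda.obj X) := ⟨X, 𝟙 X⟩
  have hbij : ∀ (m : ι × ℤ), Function.Bijective fun t : (E m.1)⟦m.2⟧ ⟶ Xω => t ≫ w := by
    intro m
    refine ⟨fun t t' h => ?_, fun t => ?_⟩
    · rw [← sub_eq_zero]
      have hz : (t - t') ≫ w = 0 := by rw [Preadditive.sub_comp, sub_eq_zero]; exact h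
      generalize t - t' = r at hz ⊢
      obtain ⟨n, g, rfl⟩ := exists_stage f q δ hT (isCompactObject_shift (hc m.1) m.2) r
      rw [Category.assoc, Category.assoc, hqw] at hz
      rw [hιq, reassoc_of% (hkill n m g hz), zero_comp]
    · refine ⟨Sigma.ι (fun j : J₀ => (E j.1.1)⟦j.1.2⟧) ⟨m, t⟩ ≫ Sigma.ι K 0 ≫ q, ?_⟩
      show (_ ≫ _ ≫ q) ≫ w = t
      rw [Category.assoc, Category.assoc, hqw]
      exact Sigma.ι_desc (fun j : J₀ => j.2) ⟨m, t⟩
  have : IsIso w := Brown.isIso_of_isUniversal (E := Brown.shifts E)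
    (Brown.exists_shifts_neg E) (fun _ h => Brown.eq_zero_shifts E hgen h)
    (A := A) (B := B) (fun k => hbij k)
    (fun k => by
      show Function.Bijective fun t : Brown.shifts E k ⟶ X => t ≫ 𝟙 X
      simp only [Category.comp_id]; exact Function.bijective_id)
    w (Category.comp_id w)
  refine ⟨K, f, u, ⟨inv w ≫ δ, isomorphic_distinguished _ hT _ (Triangle.isoMk _ _ (Iso.refl _) (Iso.refl _) (asIso w).symm ?_ ?_ ?_)⟩, h0, hstep⟩
  · exact (Category.comp_id _).trans (Category.id_comp _).symm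
  · change Sigma.desc u ≫ inv w = 𝟙 _ ≫ q
    rw [hw, Category.assoc, IsIso.hom_inv_id, Category.comp_id, Category.id_comp]
  · change (inv w ≫ δ) ≫ (𝟙 (∐ K))⟦(1 : ℤ)⟧' = inv w ≫ δ
    rw [CategoryTheory.Functor.map_id, Category.comp_id]

end Groth.Agent.Hocolim
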